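import Cfsg.Agent.H774.CC.Newton
import Cfsg.Agent.S2530

/-!
# S4884, block D: the Weyl side for type `A_n`

`wside_A` : `WSide cs (n + 1) JB` for `cs : CoxeterSystem (cA n) W`; `bound_A` : the multiplicities are at most one.
-/

set_option autoImplicit false
set_option linter.unusedSectionVars false

namespace Cfsg.Agent.H774.CC

open Cfsg Cfsg.Agent.Characters.Core Cfsg.Agent.H439.CC Cfsg.Agent.H549.PBA
open Cfsg.Agent.H215.WB (Yn tp NewtonS mu_map exists_w orderOf_w sum_dig coL_ne)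
open Cfsg.Agent.LieRecognition.BNCox (cA)

theorem exists_iso_aux {n : ℕ} {W : Type*} [Group W] : ∀ M : CoxeterMatrix (Fin n), M = CoxeterMatrix.A n →
    ∀ cs : CoxeterSystem M W, ∃ f : W ≃* Equiv.Perm (Fin (n + 1)), ∀ i, f (cs.simple i) = Equiv.swap i.castSucc i.succ := by
  rintro M rfl cs
  obtain ⟨cs', hcs'⟩ := Cfsg.Agent.S2530.result n
  refine ⟨cs.mulEquiv.trans cs'.mulEquiv.symm, fun i => ?_⟩
  rw [← hcs' i]
  change cs'.mulEquiv.symm (cs.mulEquiv (cs.mulEquiv.symm ((CoxeterMatrix.A n).simple i))) = _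
  rw [MulEquiv.apply_symm_apply]
  rfl

/-- the values at the element with cycle lengths the binary digits -/
theorem abs_le_one {α : Type*} [Fintype α] [DecidableEq α] {χ : Equiv.Perm α → ℂ} (hχ : IsIrrCharacter (Equiv.Perm α) χ)
    {n : ℕ} {w : Equiv.Perm α} (hw : tp w = (dig n : Multiset ℕ)) : ∃ z : ℤ, χ w = (z : ℂ) ∧ |z| ≤ 1 := by
  refine perm_le_one hχ ?_ ?_
  · change (tp w).Nodup
    rw [hw, Multiset.coe_nodup]
    exact nodup_dig n
  · intro x hx
    change x ∈ tp w at hx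
    rw [hw, Multiset.mem_coe] at hx
    unfold dig at hx
    obtain ⟨i, -, rfl⟩ := List.mem_map.1 hx
    exact ⟨i, rfl⟩

section A

variable {n : ℕ} {W : Type*} [Group W] (cs : CoxeterSystem (cA n) W)

/-- the Coxeter group of type `A_n` is the symmetric group -/
theorem exists_isoA : ∃ f : W ≃* Equiv.Perm (Fin (n + 1)), ∀ i, f (cs.simple i) = Equiv.swap i.castSucc i.succ :=
  exists_iso_aux _ (Cfsg.Agent.Nodes.RootsA.cA_eq n) cs

/-- the isomorphism -/
noncomputable def isoA : W ≃* Equiv.Perm (Fin (n + 1)) := (exists_isoA cs).choose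

theorem isoA_simple (i : Fin n) : isoA cs (cs.simple i) = Equiv.swap i.castSucc i.succ := (exists_isoA cs).choose_spec i

theorem WJ_eq_A (K : Finset ℕ) : WJ cs (JB K ()) = (Yn (n + 1) K).map (isoA cs).symm.toMonoidHom := by
  unfold WJ Yn
  rw [MonoidHom.map_closure]
  congr 1
  ext x
  constructor
  · rintro ⟨i, hi, rfl⟩
    have hi' : (i : ℕ) + 1 ∉ K := hi
    refine ⟨Equiv.swap i.castSucc i.succ, ⟨i.castSucc, by rw [Fin.val_castSucc]; omega, hi', rfl⟩, ?_⟩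
    rw [← isoA_simple cs i]
    exact (isoA cs).symm_apply_apply _
  · rintro ⟨_, ⟨i, hi, hi', rfl⟩, rfl⟩
    have hin : (i : ℕ) < n := by omega
    refine ⟨⟨i, hin⟩, hi', ?_⟩
    have h1 := isoA_simple cs ⟨i, hin⟩
    have h2 : cs.simple ⟨i, hin⟩ = (isoA cs).symm (Equiv.swap (Fin.castSucc ⟨i, hin⟩) (Fin.succ ⟨i, hin⟩)) := by
      rw [← h1, MulEquiv.symm_apply_apply]
    rw [h2]
    rfl

/-- the combination is the value at `w` -/
theorem sum_A {φ : W → ℂ} (hφ : IsClassFunction W φ) {w : Equiv.Perm (Fin (n + 1))}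
    (hw : tp w = (dig (n + 1) : Multiset ℕ)) :
    ∑ K ∈ (Finset.Icc 1 (n + 1)).powerset, (coL (dig (n + 1)) K : ℂ) * mu (WJ cs (JB K ())) φ = φ ((isoA cs).symm w) := by
  have h1 := newtonS (n + 1) (φ ∘ (isoA cs).symm) (by
    intro g x
    change φ ((isoA cs).symm (x * g * x⁻¹)) = φ ((isoA cs).symm g)
    rw [map_mul, map_mul, map_inv]
    exact hφ _ _) w hw
  rw [← Function.comp_apply (f := φ), ← h1]
  refine Finset.sum_congr rfl fun K _ => ?_
  rw [WJ_eq_A cs K, mu_map _ (isoA cs).symm.injective]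
  rfl

/-- **`|∑_K co(K) ⟨1_{W_J(K)}, φ⟩| ≤ 1`**, type `A_n` -/
theorem bound_A {φ : W → ℂ} (hφ : IsIrrCharacter W φ) :
    ∃ z : ℤ, |z| ≤ 1 ∧
      ∑ K ∈ (Finset.Icc 1 (n + 1)).powerset, (coL (dig (n + 1)) K : ℂ) * mu (WJ cs (JB K ())) φ = z := by
  obtain ⟨w, hw⟩ := exists_w (n + 1)
  rw [sum_A cs (isIrr_isClassFunction hφ) hw]
  have h1 : IsIrrCharacter (Equiv.Perm (Fin (n + 1))) (φ ∘ (isoA cs).symm.toMonoidHom) :=
    isIrr_comp _ (isoA cs).symm.surjective hφ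
  obtain ⟨z, hz, hz1⟩ := abs_le_one h1 hw
  exact ⟨z, hz1, hz⟩

/-- **The Weyl side for type `A_n`** -/
theorem wside_A : WSide cs (n + 1) JB := by
  intro φ hne
  have : Finite W := Finite.of_equiv _ (isoA cs).symm.toEquiv
  obtain ⟨w, hw⟩ := exists_w (n + 1)
  have h1 : ∑ K ∈ (Finset.Icc 1 (n + 1)).powerset, ∑ j : Unit, (coL (dig (n + 1)) K : ℂ) * mu (WJ cs (JB K j)) φ =
      φ.1 ((isoA cs).symm w) := by
    rw [← sum_A cs (isIrr_isClassFunction φ.2) hw]
    refine Finset.sum_congr rfl fun K _ => ?_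
    rw [Finset.univ_unique, Finset.sum_singleton]
  rw [h1] at hne
  obtain ⟨k, hk⟩ := orderOf_w hw
  have h2 : ∃ k, orderOf ((isoA cs).symm w) = 2 ^ k :=
    ⟨k, (orderOf_injective (isoA cs).symm.toMonoidHom (isoA cs).symm.injective w).trans hk⟩
  have h3 : IsIrrCharacter (Equiv.Perm (Fin (n + 1))) (φ.1 ∘ (isoA cs).symm.toMonoidHom) :=
    isIrr_comp _ (isoA cs).symm.surjective φ.2
  obtain ⟨z, hz, hz1⟩ := abs_le_one h3 hw
  have hz' : φ.1 ((isoA cs).symm w) = (z : ℂ) := hz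
  refine odd_of_value φ.2 h2 hz' ?_
  rintro ⟨m, rfl⟩
  rw [abs_mul] at hz1
  have h4 : m ≠ 0 := by
    rintro rfl
    apply hne
    rw [hz', mul_zero, Int.cast_zero]
  have h5 : 1 ≤ |m| := Int.one_le_abs h4
  have h6 : |(2 : ℤ)| = 2 := by norm_num
  rw [h6] at hz1
  omega

end A

end Cfsg.Agent.H774.CC
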